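import Groth.Agent.Lib.Helper2.ShriekExt.YonedaDual
import Groth.Agent.Lib.Helper2.CMDual.Abstract
import Groth.Agent.Lib.Helper5.ExtUnitHRing

/-!
# Serre duality on `P^N_k` in Yoneda form (helper2)
-/

set_option autoImplicit false
set_option linter.style.haveILetI false
universe u
open CategoryTheory CategoryTheory.Limits AlgebraicGeometry TopologicalSpace Opposite
open Scheme.Modules CategoryTheory.Abelian

noncomputable section

namespace Groth.Agent.Lib.Helper2.ShriekExt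

open Groth.Agent.Lib.Helper7.TwFun Groth.Agent.Lib.Helper7.MulSurj Groth.Agent.Lib.Helper7.RegRes
  Groth.Agent.Lib.Helper7.CohFinite Groth.Agent.Lib.Helper7.PnExt Groth.Agent.Lib.Helper7.PnDual
  Groth.Agent.Lib.Helper13 Groth.Agent.Lib.Helper13.DeltaFun

section Compare

variable (X : Scheme.{u}) [HasExt.{u} X.Modules]

/-- the natural comparison `Ext^j(O_X, G) ≃+ H^j(X, G)`. -/
theorem exists_comparison_scheme :
    ∃ u : ∀ (G : X.Modules) (j : ℕ), Ext.{u} (Coh.structureModule X) G j ≃+ Coh.HH X G j,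
      ∀ {G G' : X.Modules} (φ : G ⟶ G') (j : ℕ) (x : Ext.{u} (Coh.structureModule X) G j),
        u G' j (x.comp (Ext.mk₀ φ) (add_zero j)) = Hm φ j (u G j x) := by
  obtain ⟨e, he, -, hb⟩ := Groth.Agent.Lib.Helper5.ExtUnitHRing.exists_comparison X.ringCatSheaf
  refine ⟨fun G j => AddEquiv.ofBijective (e G j) (hb G j), ?_⟩
  intro G G' φ j x
  exact he.natural φ j x

end Compare

section Pn

variable (N : ℕ) (k : Type u) [Field k] [HasExt.{u} (CohB1.ProjSpace N k).Modules]

/-- the data of a natural comparison on `P^N_k`. -/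
structure Cmp where
  u : ∀ (G : (CohB1.ProjSpace N k).Modules) (j : ℕ),
    Ext.{u} (Coh.structureModule (CohB1.ProjSpace N k)) G j ≃+ Coh.HH (CohB1.ProjSpace N k) G j
  nat : ∀ {G G' : (CohB1.ProjSpace N k).Modules} (φ : G ⟶ G') (j : ℕ)
    (x : Ext.{u} (Coh.structureModule (CohB1.ProjSpace N k)) G j),
    u G' j (x.comp (Ext.mk₀ φ) (add_zero j)) = Hm φ j (u G j x)

lemma nonempty_cmp : Nonempty (Cmp N k) := by
  obtain ⟨u, hu⟩ := exists_comparison_scheme (CohB1.ProjSpace N k)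
  exact ⟨⟨u, hu⟩⟩

variable {N k} (c : Cmp N k)

lemma Cmp.map_smul (G : (CohB1.ProjSpace N k).Modules) (j : ℕ) (a : k)
    (x : Ext.{u} (Coh.structureModule (CohB1.ProjSpace N k)) G j) :
    c.u G j (a • x) = a • c.u G j x := by
  rw [Ext.smul_eq_comp_mk₀, c.nat, KLin.smul_id]
  rfl

/-- the comparison as a linear equivalence. -/
def Cmp.uL (G : (CohB1.ProjSpace N k).Modules) (j : ℕ) :
    Ext.{u} (Coh.structureModule (CohB1.ProjSpace N k)) G j ≃ₗ[k]
      Coh.HH (CohB1.ProjSpace N k) G j :=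
  { c.u G j with map_smul' := fun a x => c.map_smul G j a x }

lemma Cmp.uL_apply (G : (CohB1.ProjSpace N k).Modules) (j : ℕ)
    (x : Ext.{u} (Coh.structureModule (CohB1.ProjSpace N k)) G j) : c.uL G j x = c.u G j x := rfl

/-- the trace on `Ext^N(O, ω)`. -/
def Cmp.τ : Ext.{u} (Coh.structureModule (CohB1.ProjSpace N k)) (omega N k) N →ₗ[k] k :=
  (tr N k).comp (c.uL (omega N k) N).toLinearMap

lemma Cmp.τ_apply (x : Ext.{u} (Coh.structureModule (CohB1.ProjSpace N k)) (omega N k) N) :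
    c.τ x = tr N k (c.u (omega N k) N x) := rfl

/-- degree `0`. -/
lemma Cmp.psi_zero_bijective (G : (CohB1.ProjSpace N k).Modules) (hG : Coh.IsCoh G) :
    Function.Bijective (Psi (Coh.structureModule (CohB1.ProjSpace N k)) (omega N k) N c.τ G
      (add_zero N)) := by
  have hD := isDual_of_isCoh N k G hG
  have key : ∀ (φ : G ⟶ omega N k)
      (y : Ext.{u} (Coh.structureModule (CohB1.ProjSpace N k)) G N),
      Psi (Coh.structureModule (CohB1.ProjSpace N k)) (omega N k) N c.τ G (add_zero N)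
        (Ext.mk₀ φ) y = tr N k (Hm φ N (c.u G N y)) := by
    intro φ y
    rw [Psi_apply, Cmp.τ_apply, c.nat]
  constructor
  · rw [injective_iff_map_eq_zero]
    intro ξ hξ
    obtain ⟨φ, rfl⟩ := (Ext.mk₀_bijective _ _).2 ξ
    have : φ = 0 := hD.2 φ (fun x => by
      obtain ⟨y, rfl⟩ := (c.u G N).surjective x
      rw [← key, hξ]
      rfl)
    rw [this, Ext.mk₀_zero]
  · intro ψ'
    obtain ⟨φ, hφ⟩ := hD.1 (ψ'.comp (c.uL G N).symm.toLinearMap)
    refine ⟨Ext.mk₀ φ, ?_⟩
    ext y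
    rw [key, ← hφ]
    change ψ' ((c.uL G N).symm (c.uL G N y)) = ψ' y
    rw [LinearEquiv.symm_apply_apply]

/-- **Serre duality on `P^N_k`, Yoneda form**: `Ext^i(G, ω) ≃ Ext^j(O, G)^∨`, `i + j = N`. -/
theorem Cmp.psi_bijective (i j : ℕ) (h : j + i = N) (G : (CohB1.ProjSpace N k).Modules)
    (hG : Coh.IsCoh G) :
    Function.Bijective (Psi (Coh.structureModule (CohB1.ProjSpace N k)) (omega N k) N c.τ G h) := by
  refine Psi_bijective _ _ N c.τ Coh.IsCoh (c.psi_zero_bijective) ?_ i j h G hG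
  intro G hG
  obtain ⟨E, K, ι, π, w, hS, hE, hK, -, hExt, hHH⟩ := exists_pres N k G hG
  refine ⟨E, K, ι, π, w, hS, hE, hK, hExt, ?_⟩
  intro q hq
  haveI := hHH q hq
  exact (c.u E q).toEquiv.subsingleton

end Pn

end Groth.Agent.Lib.Helper2.ShriekExt
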