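import Groth.Agent.Lib.Helper13.ClImmColim
import Groth.Agent.Lib.Helper13.ModGrothendieck
import Groth.Agent.Lib.Helper2.Mon.TensorSymm
import Groth.Agent.Lib.Helper2.Mon.ProjClosed
import Groth.Agent.Lib.Helper2.Dual.Sheaf
import Groth.Agent.Lib.Helper2.DeltaIso

/-!
# `ι^!` for a closed immersion and its derived functors versus `ℰxt(ι_*O_X, -)` (helper2)
-/

set_option autoImplicit false
set_option linter.style.haveILetI false
universe u
open CategoryTheory CategoryTheory.Limits AlgebraicGeometry TopologicalSpace Opposite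
open Scheme.Modules

noncomputable section

namespace Groth.Agent.Lib.Helper2.ShriekExt

open Groth.Agent.Lib.Helper13 Groth.Agent.Lib.Helper2.Mon Groth.Agent.Lib.Helper2.Dual
  Groth.Agent.Lib.Helper2.Stk

lemma three_squares {C : Type*} [Category C] {X₀ X₁ X₂ X₃ Y₀ Y₁ Y₂ Y₃ : C} (f₀ : X₀ ⟶ Y₀)
    (f₁ : X₁ ⟶ Y₁) (f₂ : X₂ ⟶ Y₂) (f₃ : X₃ ⟶ Y₃) (a : X₀ ⟶ X₁) (b : X₁ ⟶ X₂) (c : X₂ ⟶ X₃)
    (a' : Y₀ ⟶ Y₁) (b' : Y₁ ⟶ Y₂) (c' : Y₂ ⟶ Y₃) (h1 : f₀ ≫ a' = a ≫ f₁)
    (h2 : f₁ ≫ b' = b ≫ f₂) (h3 : f₂ ≫ c' = c ≫ f₃) :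
    f₀ ≫ a' ≫ b' ≫ c' = (a ≫ b ≫ c) ≫ f₃ := by
  rw [reassoc_of% h1, reassoc_of% h2, h3, Category.assoc, Category.assoc]

variable {X P : Scheme.{u}} (ι : X ⟶ P) [IsClosedImmersion ι]

/-- `ι^!`, the right adjoint of `ι_*`. -/
def shriek : P.Modules ⥤ X.Modules :=
  haveI := ClImmColim.isLeftAdjoint_pushforward ι
  (pushforward ι).rightAdjoint

/-- `ι_* ⊣ ι^!`. -/
def shriekAdj : pushforward ι ⊣ shriek ι :=
  haveI := ClImmColim.isLeftAdjoint_pushforward ι
  Adjunction.ofIsLeftAdjoint _

instance : (shriek ι).Additive := (shriekAdj ι).right_adjoint_additive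

instance : PreservesFiniteLimits (shriek ι) := by
  haveI : PreservesLimitsOfSize.{0, 0} (shriek ι) := (shriekAdj ι).rightAdjoint_preservesLimits
  exact PreservesLimitsOfSize.preservesFiniteLimits _

/-- `ι_*O_X`. -/
abbrev pushO : P.Modules := (pushforward ι).obj (OO X)

/-- `- ⊗ ι_*O_X ≅ ι^* ⋙ ι_*`. -/
def tensorPushIso : (TT P).obj (pushO ι) ≅ Scheme.Modules.pullback ι ⋙ pushforward ι :=
  NatIso.ofComponents
    (fun B => braidIso (pushO ι) B ≪≫ projIso ι (OO X) B ≪≫
      (pushforward ι).mapIso ((ModSiteUnitor.leftUnitorIso X.sheaf).app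
        ((Scheme.Modules.pullback ι).obj B)))
    (by
      intro B B' b
      dsimp only [Iso.trans_hom, Functor.mapIso_hom, Iso.app_hom, Functor.comp_map]
      have h1 := braidIso_nat₂ (pushO ι) b
      have h2 := projIso_nat₂ ι (OO X) b
      have h3 := (ModSiteUnitor.leftUnitorIso X.sheaf).hom.naturality
        ((Scheme.Modules.pullback ι).map b)
      have h1' : ((TT P).obj (pushO ι)).map b ≫ (braidIso (pushO ι) B').hom =
          (braidIso (pushO ι) B).hom ≫
            (DCoh.tensorBi.obj ((pushforward ι).obj (OO X))).map b := h1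
      have h3' : (pushforward ι).map (((tensorPull ι).obj (OO X)).map b) ≫
          (pushforward ι).map ((ModSiteUnitor.leftUnitorIso X.sheaf).hom.app
            ((Scheme.Modules.pullback ι).obj B')) =
          (pushforward ι).map ((ModSiteUnitor.leftUnitorIso X.sheaf).hom.app
            ((Scheme.Modules.pullback ι).obj B)) ≫
          (pushforward ι).map ((Scheme.Modules.pullback ι).map b) := by
        rw [← Functor.map_comp, ← Functor.map_comp]
        exact congrArg (pushforward ι).map h3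
      exact three_squares _ _ _ _ _ _ _ _ _ _ h1' h2 h3')

instance : PreservesFiniteLimits (pushforward ι) := by
  haveI : PreservesLimitsOfSize.{0, 0} (pushforward ι) :=
    (pullbackPushforwardAdjunction ι).rightAdjoint_preservesLimits
  exact PreservesLimitsOfSize.preservesFiniteLimits _

instance : PreservesFiniteColimits (pushforward ι) := by
  haveI : PreservesColimitsOfSize.{0, 0} (pushforward ι) :=
    (shriekAdj ι).leftAdjoint_preservesColimits
  exact PreservesColimitsOfSize.preservesFiniteColimits _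

section SheafHom

variable [ModSite.HasSheafHom (O := P.sheaf) (pushO ι)]

/-- `ℋom(ι_*O_X, -) ≅ ι^! ⋙ ι_*`. -/
def sheafHomShriekIso : HH P (pushO ι) ≅ shriek ι ⋙ pushforward ι :=
  ((adjH P (pushO ι)).ofNatIsoLeft (tensorPushIso ι)).rightAdjointUniq
    ((pullbackPushforwardAdjunction ι).comp (shriekAdj ι))

variable [HasInjectiveResolutions P.Modules]

/-- **`Rᵠι^! ⋙ ι_* ≅ ℰxtᵠ(ι_*O_X, -)`.** -/
theorem nonempty_rightDerived_shriek_iso (q : ℕ) :
    Nonempty ((shriek ι).rightDerived q ⋙ pushforward ι ≅ (HH P (pushO ι)).rightDerived q) := by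
  haveI : EnoughInjectives P.Modules := ModGrothendieck.enoughInjectives P.ringCatSheaf
  haveI : PreservesFiniteLimits (HH P (pushO ι)) := by
    haveI : PreservesLimitsOfSize.{0, 0} (HH P (pushO ι)) :=
      (adjH P (pushO ι)).rightAdjoint_preservesLimits
    exact PreservesLimitsOfSize.preservesFiniteLimits _
  let T := DeltaIso.postcomp (DeltaIso.rdDelta (shriek ι)) (pushforward ι)
  let S := DeltaIso.rdDelta (HH P (pushO ι))
  have hT : T.IsEffaceable := DeltaIso.isEffaceable_of_isZero_injective T (fun I hI n =>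
    (pushforward ι).map_isZero (Functor.isZero_rightDerived_obj_injective_succ (shriek ι) n I))
  have hS : S.IsEffaceable := DeltaIso.isEffaceable_of_isZero_injective S (fun I hI n =>
    Functor.isZero_rightDerived_obj_injective_succ (HH P (pushO ι)) n I)
  have e : T.F 0 ≅ S.F 0 :=
    Functor.isoWhiskerRight (shriek ι).rightDerivedZeroIsoSelf (pushforward ι) ≪≫
      (sheafHomShriekIso ι).symm ≪≫ (HH P (pushO ι)).rightDerivedZeroIsoSelf.symm
  exact DeltaIso.nonempty_iso_of_isEffaceable hT hS e q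

end SheafHom

end Groth.Agent.Lib.Helper2.ShriekExt
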