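import Groth.Agent.Lib.Helper2.ShriekExt.Abstract
import Groth.Agent.Lib.Helper2.ShriekExt.Shriek
import Groth.Agent.Lib.Helper2.ShriekExt.PnYoneda
import Groth.Agent.Lib.Helper2.ClImm.FF
import Groth.Agent.Lib.Helper7.PushLinear
import Groth.Agent.Lib.Helper7.ClTransfer
import Groth.Agent.Lib.Helper13.ClImmPush

/-!
# The dualizing sheaf of a closed subscheme of `P^N_k` (helper2)

If `ℰxt^q(ι_*O_X, ω_P) = 0` for `q < N - n`, then any `ω` with `ι_*ω ≅ ℰxt^{N-n}(ι_*O_X, ω_P)`
represents `F ↦ H^n(X, F)^∨` on coherent modules.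
-/

set_option autoImplicit false
set_option linter.style.haveILetI false
universe u
open CategoryTheory CategoryTheory.Limits AlgebraicGeometry TopologicalSpace Opposite
open Scheme.Modules CategoryTheory.Abelian

noncomputable section

namespace Groth.Agent.Lib.Helper2.ShriekExt

open Groth.Agent.Lib.Helper7.TwFun Groth.Agent.Lib.Helper7.MulSurj Groth.Agent.Lib.Helper7.RegRes
  Groth.Agent.Lib.Helper7.CohFinite Groth.Agent.Lib.Helper7.PnExt Groth.Agent.Lib.Helper7.PnDual
  Groth.Agent.Lib.Helper13 Groth.Agent.Lib.Helper2.Dual Groth.Agent.Lib.Helper7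

variable (k : Type u) [Field k] (N n : ℕ) (hn : n ≤ N) {X : Scheme.{u}}
  [X.Over (Spec (CommRingCat.of k))]
  (ι : X ⟶ CohB1.ProjSpace N k) [IsClosedImmersion ι]
  (hι : ι ≫ CohB1.ProjSpace.toSpec N k = X ↘ Spec (CommRingCat.of k))
  [ModSite.HasSheafHom (O := (CohB1.ProjSpace N k).sheaf) (pushO ι)]
  [HasInjectiveResolutions (CohB1.ProjSpace N k).Modules]

omit [X.Over (Spec (CommRingCat.of k))] in
lemma push_Hm {F' F : X.Modules} (f : F' ⟶ F) (p : ℕ) (x : Coh.HH X F' p) :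
    PushLinear.pushEquiv ι F p (Hm f p x) =
      Hm ((pushforward ι).map f) p (PushLinear.pushEquiv ι F' p x) :=
  PushLinear.HEquivPush_naturality ι.isClosedEmbedding _ p x

include hn hι in
theorem exists_dualizing (ω : X.Modules)
    (hω : Nonempty ((pushforward ι).obj ω ≅
      ((HH (CohB1.ProjSpace N k) (pushO ι)).rightDerived (N - n)).obj (omega N k)))
    (hvan : ∀ q, q < N - n →
      IsZero (((HH (CohB1.ProjSpace N k) (pushO ι)).rightDerived q).obj (omega N k))) :
    ∃ t : Coh.HH X ω n →ₗ[k] k, ∀ F : X.Modules, Coh.IsCoh F → ∀ ψ : Coh.HH X F n →ₗ[k] k,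
      ∃! φ : F ⟶ ω, ∀ x : Coh.HH X F n, ψ x = t (Hm φ n x) := by
  haveI : EnoughInjectives (CohB1.ProjSpace N k).Modules :=
    ModGrothendieck.enoughInjectives (CohB1.ProjSpace N k).ringCatSheaf
  haveI : HasExt.{u} (CohB1.ProjSpace N k).Modules := hasExt_of_enoughInjectives _
  obtain ⟨c⟩ := nonempty_cmp N k
  obtain ⟨r, hr⟩ : ∃ r, r = N - n := ⟨_, rfl⟩
  rw [← hr] at hω hvan
  have hnr : n + r = N := by omega
  -- vanishing for `ι^!`
  have hv' : ∀ q, q < r → IsZero (((shriek ι).rightDerived q).obj (omega N k)) := by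
    intro q hq
    obtain ⟨e⟩ := nonempty_rightDerived_shriek_iso ι q
    apply ClImmPush.isZero_of_pushforward ι
    exact IsZero.of_iso (hvan q hq) (e.app (omega N k))
  obtain ⟨e, he⟩ := natEquiv_main (shriekAdj ι) r (omega N k) hv'
  -- `ω ≅ Rʳι^!ω_P`
  obtain ⟨e1⟩ := hω
  obtain ⟨e2⟩ := nonempty_rightDerived_shriek_iso ι r
  let θ : ω ≅ ((shriek ι).rightDerived r).obj (omega N k) :=
    (ClImm.fullyFaithfulPushforward ι).preimageIso (e1 ≪≫ (e2.app (omega N k)).symm)
  -- the comparison of cohomology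
  let E : ∀ F : X.Modules, Coh.HH X F n ≃ₗ[k]
      Ext.{u} (Coh.structureModule (CohB1.ProjSpace N k)) ((pushforward ι).obj F) n :=
    fun F => (PushLinear.pushLinearEquiv ι F k hι.symm n).trans
      (c.uL ((pushforward ι).obj F) n).symm
  have hE : ∀ {F' F : X.Modules} (f : F' ⟶ F) (x : Coh.HH X F' n),
      E F (Hm f n x) = (E F' x).comp (Ext.mk₀ ((pushforward ι).map f)) (add_zero n) := by
    intro F' F f x
    apply (c.u ((pushforward ι).obj F) n).injective
    rw [c.nat]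
    change c.u _ n ((c.uL _ n).symm (PushLinear.pushEquiv ι F n (Hm f n x))) =
      Hm ((pushforward ι).map f) n (c.u _ n ((c.uL _ n).symm (PushLinear.pushEquiv ι F' n x)))
    rw [← Cmp.uL_apply, ← Cmp.uL_apply, LinearEquiv.apply_symm_apply,
      LinearEquiv.apply_symm_apply, push_Hm]
  -- the natural bijection
  let Λ : ∀ F : X.Modules, (F ⟶ ω) → (Coh.HH X F n →ₗ[k] k) := fun F φ =>
    (Psi (Coh.structureModule (CohB1.ProjSpace N k)) (omega N k) N c.τ
      ((pushforward ι).obj F) hnr ((e F).symm (φ ≫ θ.hom))).comp (E F).toLinearMap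
  have hΛ : ∀ (F : X.Modules) (φ : F ⟶ ω) (x : Coh.HH X F n),
      Λ F φ x = c.τ ((E F x).comp ((e F).symm (φ ≫ θ.hom)) hnr) := fun _ _ _ => rfl
  have hbij : ∀ F : X.Modules, Coh.IsCoh F → Function.Bijective (Λ F) := by
    intro F hF
    have h3 := c.psi_bijective r n hnr ((pushforward ι).obj F) (ClTransfer.isCoh_push k ι F hF)
    have h1 : Function.Bijective (fun φ : F ⟶ ω => φ ≫ θ.hom) :=
      ⟨fun a b h => by simpa using congrArg (· ≫ θ.inv) h,
        fun b => ⟨b ≫ θ.inv, by simp⟩⟩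
    have h4 : Function.Bijective (fun ψ : Ext.{u} (Coh.structureModule (CohB1.ProjSpace N k))
        ((pushforward ι).obj F) n →ₗ[k] k => ψ.comp (E F).toLinearMap) := by
      constructor
      · intro a b h
        ext y
        have := LinearMap.congr_fun h ((E F).symm y)
        simpa using this
      · intro ψ
        refine ⟨ψ.comp (E F).symm.toLinearMap, ?_⟩
        ext x
        simp
    exact h4.comp (h3.comp ((e F).symm.bijective.comp h1))
  have hnat : ∀ {F' F : X.Modules} (f : F' ⟶ F) (φ : F ⟶ ω) (x : Coh.HH X F' n),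
      Λ F' (f ≫ φ) x = Λ F φ (Hm f n x) := by
    intro F' F f φ x
    rw [hΛ, hΛ, hE]
    have h1 : (e F').symm ((f ≫ φ) ≫ θ.hom) =
        (Ext.mk₀ ((pushforward ι).map f)).comp ((e F).symm (φ ≫ θ.hom)) (zero_add r) := by
      rw [AddEquiv.symm_apply_eq, he, AddEquiv.apply_symm_apply, Category.assoc]
    rw [h1]
    congr 1
    exact (Ext.comp_assoc _ _ _ (add_zero n) (zero_add r) (by omega)).symm
  refine ⟨Λ ω (𝟙 ω), ?_⟩
  intro F hF ψ
  have hform : ∀ (φ : F ⟶ ω) (x : Coh.HH X F n), Λ F φ x = Λ ω (𝟙 ω) (Hm φ n x) := by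
    intro φ x
    rw [← hnat φ (𝟙 ω) x, Category.comp_id]
  obtain ⟨φ, hφ⟩ := (hbij F hF).2 ψ
  refine ⟨φ, fun x => ?_, fun φ' hφ' => ?_⟩
  · rw [← hform, hφ]
  · apply (hbij F hF).1
    rw [hφ]
    ext x
    rw [hform, ← hφ' x]

end Groth.Agent.Lib.Helper2.ShriekExt
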