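import Groth.Agent.Lib.Helper2.ShriekExt.Dualizing
import Groth.Agent.Lib.Helper2.ExtLin.PnDual
import Groth.Agent.S0458
import Groth.Agent.S0019

/-!
# Vanishing of `ℰxt^q(ι_*O_X, ω_P)` for `q < N - dim X` (helper2)
-/

set_option autoImplicit false
set_option linter.style.haveILetI false
universe u
open CategoryTheory CategoryTheory.Limits AlgebraicGeometry TopologicalSpace Opposite
open Scheme.Modules CategoryTheory.Abelian

noncomputable section

namespace Groth.Agent.Lib.Helper2.ShriekExt

open Groth.Agent.Lib.Helper7.TwFun Groth.Agent.Lib.Helper7.MulSurj Groth.Agent.Lib.Helper7.RegRes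
  Groth.Agent.Lib.Helper7.CohFinite Groth.Agent.Lib.Helper7.PnExt Groth.Agent.Lib.Helper7.PnDual
  Groth.Agent.Lib.Helper13 Groth.Agent.Lib.Helper2.Dual Groth.Agent.Lib.Helper7

variable (k : Type u) [Field k] (N n : ℕ) {X : Scheme.{u}}
  (ι : X ⟶ CohB1.ProjSpace N k) [IsClosedImmersion ι]

lemma isNoetherian_of_closedImmersion' {X' W : Scheme.{u}} [IsNoetherian W] (i : X' ⟶ W)
    [IsClosedImmersion i] : IsNoetherian X' := by
  haveI : IsLocallyNoetherian X' := LocallyOfFiniteType.isLocallyNoetherian i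
  haveI : CompactSpace X' := QuasiCompact.compactSpace_of_compactSpace i
  exact {}

include ι in
/-- Grothendieck vanishing on `X`. -/
lemma subsingleton_HH_of_dim_lt (hdim : topologicalKrullDim ↥X ≤ (n : WithBot ℕ∞))
    (F : X.Modules) (p : ℕ) (hp : n < p) : Subsingleton (Coh.HH X F p) := by
  haveI : IsNoetherian (CohB1.ProjSpace N k) := Groth.Agent.S2357.result (CohB1.polyGrading N k)
  haveI : IsNoetherian X := isNoetherian_of_closedImmersion' ι
  haveI : NoetherianSpace ↥X.toTopCat := IsNoetherian.noetherianSpace (X := X)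
  exact Groth.Agent.S0458.result (X := X.toTopCat) n hdim (Coh.toAb F) p hp

lemma sub_key (p : ℕ) (m : ℤ) :
    Subsingleton (Coh.HH X ((Scheme.Modules.pullback ι).obj (Twist.twistProjSpace N k (-m))) p) ↔
    Subsingleton (Coh.HH (CohB1.ProjSpace N k) (CohB1.tensorMod
      ((Scheme.Modules.pushforward ι).obj (Coh.structureModule X))
      (Twist.twistProjSpace N k (-m))) p) := by
  have e := Groth.Agent.Lib.Helper7.PushLinear.pushEquiv ι
    ((Scheme.Modules.pullback ι).obj (Twist.twistProjSpace N k (-m))) p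
  have e2 : CohB1.tensorMod ((Scheme.Modules.pushforward ι).obj (Coh.structureModule X))
      (Twist.twistProjSpace N k (-m)) ≅
      (Scheme.Modules.pushforward ι).obj
        ((Scheme.Modules.pullback ι).obj (Twist.twistProjSpace N k (-m))) :=
    Groth.Agent.Lib.Helper2.Mon.projIso ι (Coh.structureModule X) (Twist.twistProjSpace N k (-m)) ≪≫
      (Scheme.Modules.pushforward ι).mapIso (Groth.Agent.Lib.Helper3.InvMonoidal.unitorL _)
  constructor
  · intro h
    haveI := h
    exact Groth.Agent.Lib.Helper7.TwFun.subsingleton_HH_of_iso e2 p e.symm.toEquiv.subsingleton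
  · intro h
    haveI : Subsingleton (Coh.HH (CohB1.ProjSpace N k) ((Scheme.Modules.pushforward ι).obj
        ((Scheme.Modules.pullback ι).obj (Twist.twistProjSpace N k (-m)))) p) :=
      Groth.Agent.Lib.Helper7.TwFun.subsingleton_HH_of_iso e2.symm p h
    exact e.toEquiv.subsingleton

variable [ModSite.HasSheafHom (O := (CohB1.ProjSpace N k).sheaf) (pushO ι)]
  [HasInjectiveResolutions (CohB1.ProjSpace N k).Modules]

/-- `ℰxt^q(ι_*O_X, ω_P) = 0` for `q < N - dim X`. -/
theorem isZero_extSh_of_lt (hdim : topologicalKrullDim ↥X ≤ (n : WithBot ℕ∞)) (q : ℕ)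
    (hq : q < N - n) :
    IsZero (((HH (CohB1.ProjSpace N k) (pushO ι)).rightDerived q).obj (omega N k)) := by
  haveI : IsNoetherian (CohB1.ProjSpace N k) := Groth.Agent.S2357.result (CohB1.polyGrading N k)
  haveI : EnoughInjectives (CohB1.ProjSpace N k).Modules :=
    Groth.Agent.Lib.Helper13.ModGrothendieck.enoughInjectives (CohB1.ProjSpace N k).ringCatSheaf
  haveI : HasExt.{u} (CohB1.ProjSpace N k).Modules := hasExt_of_enoughInjectives.{u} _
  haveI : HasInjectiveResolutions (ModSite.Mod (CohB1.ProjSpace N k).sheaf) :=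
    ‹HasInjectiveResolutions (CohB1.ProjSpace N k).Modules›
  have hOX : Coh.IsCoh (pushO ι) :=
    Groth.Agent.S0019.result ι _ ⟨inferInstance, inferInstance⟩
  have h := (Groth.Agent.Lib.Helper2.ExtLin.neg_twist_vanishing_iff N k (pushO ι) hOX (N - q)
    (by omega)).mp ⟨0, fun m _ => (sub_key k N ι (N - q) m).mp
      (subsingleton_HH_of_dim_lt k N n ι hdim _ (N - q) (by omega))⟩
  have h2 : N - (N - q) = q := by omega
  rw [h2] at h
  exact h

end Groth.Agent.Lib.Helper2.ShriekExt
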