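import Mathlib
import Groth.Agent.Lib.Helper10.DerLES

/-!
# `Ext` through a non-exact right adjoint, by dimension shifting (helper2)

`adj : L ⊣ R` between abelian categories with `L` exact.  If `RᵠR(G) = 0` for `q < r`, then
`Extʳ(L F, G) ≃+ Hom(F, RʳR(G))`, naturally in `F` (`natEquiv_main`).
-/

set_option autoImplicit false
universe w v v' u u'

namespace Groth.Agent.Lib.Helper2.ShriekExt

open CategoryTheory CategoryTheory.Limits CategoryTheory.Abelian

section Coker

lemma exists_addEquiv_of_cokernel {A₂ A₃ B₂ B₃ : Type*} [AddCommGroup A₂] [AddCommGroup A₃]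
    [AddCommGroup B₂] [AddCommGroup B₃] (p : A₂ →+ A₃) (q : B₂ →+ B₃) (φ : A₂ ≃+ B₂)
    (hp : Function.Surjective p) (hq : Function.Surjective q)
    (hker : ∀ y, p y = 0 ↔ q (φ y) = 0) : ∃ ψ : A₃ ≃+ B₃, ∀ y, ψ (p y) = q (φ y) := by
  have hmap : p.ker.map φ = q.ker := by
    ext z
    constructor
    · rintro ⟨y, hy, rfl⟩
      exact (hker y).1 hy
    · intro hz
      refine ⟨φ.symm z, ?_, φ.apply_symm_apply z⟩
      apply (hker _).2
      rw [φ.apply_symm_apply]
      exact hz
  let e1 := QuotientAddGroup.quotientKerEquivOfSurjective p hp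
  let e2 := QuotientAddGroup.quotientKerEquivOfSurjective q hq
  let e12 := QuotientAddGroup.congr p.ker q.ker φ hmap
  refine ⟨e1.symm.trans (e12.trans e2), fun y => ?_⟩
  have h1 : e1.symm (p y) = (y : A₂ ⧸ p.ker) := by
    rw [AddEquiv.symm_apply_eq]
    rfl
  change e2 (e12 (e1.symm (p y))) = _
  rw [h1]
  rfl

end Coker

section FourTerm

variable {A : Type u} [Category.{v} A] [Abelian A]

lemma injective_of_retract {X Y : A} (i : X ⟶ Y) (p : Y ⟶ X) (h : i ≫ p = 𝟙 X) [Injective Y] :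
    Injective X := by
  constructor
  intro P Q g m hm
  refine ⟨Injective.factorThru (g ≫ i) m ≫ p, ?_⟩
  rw [← Category.assoc, Injective.comp_factorThru, Category.assoc, h, Category.comp_id]

variable {X₁ X₂ X₃ X₄ : A} (f : X₁ ⟶ X₂) (g : X₂ ⟶ X₃) (d : X₃ ⟶ X₄) [Mono f]
  (w₁ : f ≫ g = 0) (w₂ : g ≫ d = 0) (h₁ : (ShortComplex.mk f g w₁).Exact)
  (h₂ : (ShortComplex.mk g d w₂).Exact) [Injective X₁]

include h₁ h₂ in
lemma fourTerm_shortExact :
    (ShortComplex.mk f (kernel.lift d g w₂) (by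
      rw [← cancel_mono (kernel.ι d), Category.assoc, kernel.lift_ι, w₁, zero_comp])).ShortExact := by
  have hepi : Epi (kernel.lift d g w₂) := (ShortComplex.exact_iff_epi_kernel_lift _).1 h₂
  refine ShortComplex.ShortExact.mk' ?_ (inferInstanceAs (Mono f)) hepi
  let φ : ShortComplex.mk f (kernel.lift d g w₂) (by
      rw [← cancel_mono (kernel.ι d), Category.assoc, kernel.lift_ι, w₁, zero_comp]) ⟶
      ShortComplex.mk f g w₁ :=
    { τ₁ := 𝟙 _
      τ₂ := 𝟙 _
      τ₃ := kernel.ι d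
      comm₁₂ := by simp
      comm₂₃ := by simp }
  haveI : Epi φ.τ₁ := inferInstanceAs (Epi (𝟙 X₁))
  haveI : IsIso φ.τ₂ := inferInstanceAs (IsIso (𝟙 X₂))
  haveI : Mono φ.τ₃ := inferInstanceAs (Mono (kernel.ι d))
  exact (ShortComplex.exact_iff_of_epi_of_isIso_of_mono φ).2 h₁

include h₁ h₂ in
lemma fourTerm_exists_section : ∃ s₀ : kernel d ⟶ X₂, s₀ ≫ kernel.lift d g w₂ = 𝟙 _ :=
  ⟨((fourTerm_shortExact f g d w₁ w₂ h₁ h₂).splittingOfInjective).s,
    ((fourTerm_shortExact f g d w₁ w₂ h₁ h₂).splittingOfInjective).s_g⟩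

include w₁ h₁ h₂ in
lemma fourTerm_lift {F : A} (t : F ⟶ X₃) (ht : t ≫ d = 0) : ∃ s : F ⟶ X₂, s ≫ g = t := by
  obtain ⟨s₀, hs₀⟩ := fourTerm_exists_section f g d w₁ w₂ h₁ h₂
  refine ⟨kernel.lift d t ht ≫ s₀, ?_⟩
  have hg : g = kernel.lift d g w₂ ≫ kernel.ι d := (kernel.lift_ι _ _ _).symm
  rw [hg, Category.assoc, ← Category.assoc s₀, hs₀, Category.id_comp, kernel.lift_ι]

include w₁ h₁ h₂ in
lemma fourTerm_section [Injective X₂] [Epi d] : ∃ σ : X₄ ⟶ X₃, σ ≫ d = 𝟙 _ := by
  obtain ⟨s₀, hs₀⟩ := fourTerm_exists_section f g d w₁ w₂ h₁ h₂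
  haveI : Injective (kernel d) := injective_of_retract s₀ _ hs₀
  have hS : (ShortComplex.mk (kernel.ι d) d (kernel.condition d)).ShortExact :=
    ShortComplex.ShortExact.mk' (ShortComplex.exact_of_f_is_kernel _ (kernelIsKernel d))
      (inferInstanceAs (Mono (kernel.ι d))) (inferInstanceAs (Epi d))
  exact ⟨hS.splittingOfInjective.s, hS.splittingOfInjective.s_g⟩

end FourTerm

section Main

variable {A : Type u} [Category.{v} A] [Abelian A] {B : Type u'} [Category.{v'} B] [Abelian B]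
  [HasExt.{w} B] [EnoughInjectives B]
  {L : A ⥤ B} {R : B ⥤ A} [L.Additive] [R.Additive] (adj : L ⊣ R)
  [PreservesFiniteLimits L] [PreservesFiniteColimits L]

include adj in
lemma pfl_R : PreservesFiniteLimits R := by
  haveI : PreservesLimitsOfSize.{0, 0} R := adj.rightAdjoint_preservesLimits
  exact PreservesLimitsOfSize.preservesFiniteLimits _

include adj in
lemma injective_R (I : B) [Injective I] : Injective (R.obj I) :=
  Injective.injective_of_adjoint adj I

/-- the short exact sequence `0 ⟶ G ⟶ I ⟶ G' ⟶ 0` with `I` injective. -/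
noncomputable abbrev ses (G : B) : ShortComplex B :=
  ShortComplex.mk (Injective.ι G) (cokernel.π (Injective.ι G)) (cokernel.condition _)

lemma ses_shortExact (G : B) : (ses G).ShortExact :=
  ShortComplex.ShortExact.mk' (ShortComplex.exact_of_g_is_cokernel _ (cokernelIsCokernel _))
    (inferInstanceAs (Mono (Injective.ι G))) (inferInstanceAs (Epi (cokernel.π _)))

instance (G : B) : Injective (ses G).X₂ := inferInstanceAs (Injective (Injective.under G))

variable (L) in
/-- natural family of additive equivalences `Extʳ(L F, G) ≃+ Hom(F, T)`. -/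
def NatEquiv (G : B) (r : ℕ) (T : A) : Prop :=
  ∃ e : ∀ F : A, Ext.{w} (L.obj F) G r ≃+ (F ⟶ T),
    ∀ {F' F : A} (f : F' ⟶ F) (x : Ext.{w} (L.obj F) G r),
      e F' ((Ext.mk₀ (L.map f)).comp x (zero_add r)) = f ≫ e F x

lemma NatEquiv.of_iso {G : B} {r : ℕ} {T T' : A} (h : NatEquiv.{w} L G r T) (θ : T ≅ T') :
    NatEquiv.{w} L G r T' := by
  obtain ⟨e, he⟩ := h
  refine ⟨fun F => (e F).trans
    { toFun := fun a => a ≫ θ.hom
      invFun := fun a => a ≫ θ.inv
      left_inv := fun a => by simp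
      right_inv := fun a => by simp
      map_add' := fun a b => Preadditive.add_comp _ _ _ a b θ.hom }, ?_⟩
  intro F' F f x
  change e F' _ ≫ θ.hom = f ≫ (e F x ≫ θ.hom)
  rw [he f x, Category.assoc]

section LES

variable (R) [PreservesFiniteLimits R] (G : B)

/-- the connecting map `R G' ⟶ R¹R G`. -/
noncomputable def δR : R.obj (ses G).X₃ ⟶ (R.rightDerived 1).obj G :=
  R.rightDerivedZeroIsoSelf.inv.app (ses G).X₃ ≫
    (H10SES.derivedLES R).δ (ses G) (ses_shortExact G) 0 1 rfl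

lemma map_g_δR : R.map (ses G).g ≫ δR R G = 0 := by
  unfold δR
  have n := R.rightDerivedZeroIsoSelf.inv.naturality (ses G).g
  rw [← Category.assoc, n, Category.assoc,
    (H10SES.derivedLES R).comp_δ (ses G) (ses_shortExact G) 0 1 rfl, comp_zero]

lemma exact_g_δR : (ShortComplex.mk (R.map (ses G).g) (δR R G) (map_g_δR R G)).Exact := by
  refine (ShortComplex.exact_iff_of_iso ?_).1
    ((H10SES.derivedLES R).exact₃ (ses G) (ses_shortExact G) 0 1 rfl)
  refine ShortComplex.isoMk (R.rightDerivedZeroIsoSelf.app _) (R.rightDerivedZeroIsoSelf.app _)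
    (Iso.refl _) ?_ ?_
  · exact (R.rightDerivedZeroIsoSelf.hom.naturality (ses G).g).symm
  · dsimp only [Iso.app_hom, Iso.refl_hom]
    unfold δR
    rw [Category.comp_id, ← Category.assoc, ← NatTrans.comp_app, Iso.hom_inv_id,
      NatTrans.id_app, Category.id_comp]

lemma epi_δR : Epi (δR R G) := by
  have h := (H10SES.derivedLES R).exact₁ (ses G) (ses_shortExact G) 0 1 rfl
  have hz : IsZero ((R.rightDerived 1).obj (ses G).X₂) :=
    Functor.isZero_rightDerived_obj_injective_succ R 0 _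
  haveI : Epi ((H10SES.derivedLES R).δ (ses G) (ses_shortExact G) 0 1 rfl) :=
    h.epi_f (hz.eq_of_tgt _ _)
  unfold δR
  exact epi_comp _ _

lemma exact_f_g : (ShortComplex.mk (R.map (ses G).f) (R.map (ses G).g)
    (by rw [← R.map_comp, (ses G).zero, R.map_zero])).Exact :=
  (ses_shortExact G).exact.map_of_mono_of_preservesKernel R (ses_shortExact G).mono_f inferInstance

instance mono_map_f : Mono (R.map (ses G).f) :=
  haveI := (ses_shortExact G).mono_f
  inferInstance

end LES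

section One

variable [PreservesFiniteLimits R] (G : B)

lemma exists_mk₀_comp_extClass (X : B) (x : Ext.{w} X G 1) :
    ∃ y : X ⟶ (ses G).X₃, (Ext.mk₀ y).comp (ses_shortExact G).extClass (zero_add 1) = x := by
  have hx : x.comp (Ext.mk₀ (ses G).f) (add_zero 1) = 0 := Ext.eq_zero_of_injective _
  obtain ⟨x₃, hx₃⟩ := Ext.covariant_sequence_exact₁ X (ses_shortExact G) x hx (zero_add 1)
  obtain ⟨y, rfl⟩ := (Ext.mk₀_bijective _ _).2 x₃
  exact ⟨y, hx₃⟩

lemma mk₀_comp_extClass_eq_zero_iff (X : B) (y : X ⟶ (ses G).X₃) :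
    (Ext.mk₀ y).comp (ses_shortExact G).extClass (zero_add 1) = 0 ↔
      ∃ w : X ⟶ (ses G).X₂, w ≫ (ses G).g = y := by
  constructor
  · intro h
    obtain ⟨x₂, hx₂⟩ := Ext.covariant_sequence_exact₃ X (ses_shortExact G) (Ext.mk₀ y)
      (zero_add 1) h
    obtain ⟨w, rfl⟩ := (Ext.mk₀_bijective _ _).2 x₂
    rw [Ext.mk₀_comp_mk₀] at hx₂
    exact ⟨w, (Ext.mk₀_bijective _ _).1 hx₂⟩
  · rintro ⟨w, rfl⟩
    rw [← Ext.mk₀_comp_mk₀, Ext.comp_assoc _ _ _ (zero_add 0) (zero_add 1) (by omega),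
      (ses_shortExact G).comp_extClass, Ext.comp_zero]

include adj in
theorem natEquiv_one [Injective (R.obj G)] :
    NatEquiv.{w} L G 1 ((R.rightDerived 1).obj G) := by
  have hS := ses_shortExact G
  haveI : Injective (R.obj (ses G).X₂) := injective_R adj _
  haveI : Injective (R.obj (ses G).X₁) := ‹Injective (R.obj G)›
  haveI := epi_δR R G
  have w₁ : R.map (ses G).f ≫ R.map (ses G).g = 0 := by
    rw [← R.map_comp, (ses G).zero, R.map_zero]
  have key : ∀ F : A, ∃ ψ : Ext.{w} (L.obj F) G 1 ≃+ (F ⟶ (R.rightDerived 1).obj G),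
      ∀ y : L.obj F ⟶ (ses G).X₃, ψ ((Ext.mk₀ y).comp hS.extClass (zero_add 1)) =
        adj.homEquiv F _ y ≫ δR R G := by
    intro F
    let p : (L.obj F ⟶ (ses G).X₃) →+ Ext.{w} (L.obj F) G 1 :=
      AddMonoidHom.mk' (fun y => (Ext.mk₀ y).comp hS.extClass (zero_add 1))
        (fun a b => by rw [Ext.mk₀_add, Ext.add_comp])
    let q : (F ⟶ R.obj (ses G).X₃) →+ (F ⟶ (R.rightDerived 1).obj G) :=
      AddMonoidHom.mk' (fun z => z ≫ δR R G) (fun a b => Preadditive.add_comp _ _ _ a b _)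
    have hp : Function.Surjective p := fun x => exists_mk₀_comp_extClass G _ x
    have hq : Function.Surjective q := by
      intro m
      obtain ⟨σ, hσ⟩ := fourTerm_section (R.map (ses G).f) (R.map (ses G).g) (δR R G) w₁
        (map_g_δR R G) (exact_f_g R G) (exact_g_δR R G)
      exact ⟨m ≫ σ, by change (m ≫ σ) ≫ δR R G = m; rw [Category.assoc, hσ, Category.comp_id]⟩
    have hker : ∀ y, p y = 0 ↔ q (adj.homAddEquiv F (ses G).X₃ y) = 0 := by
      intro y
      change (Ext.mk₀ y).comp hS.extClass (zero_add 1) = 0 ↔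
        adj.homEquiv F (ses G).X₃ y ≫ δR R G = 0
      rw [mk₀_comp_extClass_eq_zero_iff]
      constructor
      · rintro ⟨w, rfl⟩
        rw [adj.homEquiv_naturality_right, Category.assoc, map_g_δR, comp_zero]
      · intro h
        obtain ⟨s, hs⟩ := fourTerm_lift (R.map (ses G).f) (R.map (ses G).g) (δR R G) w₁
          (map_g_δR R G) (exact_f_g R G) (exact_g_δR R G) _ h
        refine ⟨(adj.homEquiv _ _).symm s, ?_⟩
        apply (adj.homEquiv _ _).injective
        rw [adj.homEquiv_naturality_right, Equiv.apply_symm_apply, hs]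
    obtain ⟨ψ, hψ⟩ := exists_addEquiv_of_cokernel p q (adj.homAddEquiv F (ses G).X₃) hp hq hker
    exact ⟨ψ, fun y => hψ y⟩
  choose e he using key
  refine ⟨e, ?_⟩
  intro F' F f x
  obtain ⟨y, rfl⟩ := exists_mk₀_comp_extClass G _ x
  rw [he, ← Ext.comp_assoc _ _ _ (zero_add 0) (zero_add 1) (by omega), Ext.mk₀_comp_mk₀, he,
    adj.homEquiv_naturality_left, Category.assoc]

end One

section Succ

variable [PreservesFiniteLimits R] (G : B)

lemma bijective_postcomp_extClass (X : B) (r : ℕ) :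
    Function.Bijective ((ses_shortExact G).extClass.postcomp X (rfl : r + 1 + 1 = r + 2) :
      Ext.{w} X (ses G).X₃ (r + 1) →+ Ext.{w} X G (r + 2)) := by
  constructor
  · rw [injective_iff_map_eq_zero]
    intro a ha
    obtain ⟨x₂, hx₂⟩ := Ext.covariant_sequence_exact₃ X (ses_shortExact G) a rfl ha
    rw [← hx₂, Ext.eq_zero_of_injective x₂, Ext.zero_comp]
  · intro x
    have hx : x.comp (Ext.mk₀ (ses G).f) (add_zero (r + 2)) = 0 := Ext.eq_zero_of_injective _
    exact Ext.covariant_sequence_exact₁ X (ses_shortExact G) x hx rfl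

lemma isIso_δ (r : ℕ) :
    IsIso ((H10SES.derivedLES R).δ (ses G) (ses_shortExact G) (r + 1) (r + 2) rfl) := by
  have h3 := (H10SES.derivedLES R).exact₃ (ses G) (ses_shortExact G) (r + 1) (r + 2) rfl
  have h1 := (H10SES.derivedLES R).exact₁ (ses G) (ses_shortExact G) (r + 1) (r + 2) rfl
  have hz1 : IsZero ((R.rightDerived (r + 1)).obj (ses G).X₂) :=
    Functor.isZero_rightDerived_obj_injective_succ R r _
  have hz2 : IsZero ((R.rightDerived (r + 2)).obj (ses G).X₂) :=
    Functor.isZero_rightDerived_obj_injective_succ R (r + 1) _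
  haveI : Mono ((H10SES.derivedLES R).δ (ses G) (ses_shortExact G) (r + 1) (r + 2) rfl) :=
    h3.mono_g (hz1.eq_of_src _ _)
  haveI : Epi ((H10SES.derivedLES R).δ (ses G) (ses_shortExact G) (r + 1) (r + 2) rfl) :=
    h1.epi_f (hz2.eq_of_tgt _ _)
  exact isIso_of_mono_of_epi _

lemma isZero_rightDerived_X₃ (q : ℕ) (h : IsZero ((R.rightDerived (q + 2)).obj G)) :
    IsZero ((R.rightDerived (q + 1)).obj (ses G).X₃) := by
  have h3 := (H10SES.derivedLES R).exact₃ (ses G) (ses_shortExact G) (q + 1) (q + 2) rfl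
  have hz1 : IsZero ((R.rightDerived (q + 1)).obj (ses G).X₂) :=
    Functor.isZero_rightDerived_obj_injective_succ R q _
  exact h3.isZero_X₂ (hz1.eq_of_src _ _) (h.eq_of_tgt _ _)

include adj in
lemma injective_R_X₃ [Injective (R.obj G)] (h : IsZero ((R.rightDerived 1).obj G)) :
    Injective (R.obj (ses G).X₃) := by
  haveI : Injective (R.obj (ses G).X₂) := injective_R adj _
  haveI : Injective (R.obj (ses G).X₁) := ‹Injective (R.obj G)›
  have w₁ : R.map (ses G).f ≫ R.map (ses G).g = 0 := by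
    rw [← R.map_comp, (ses G).zero, R.map_zero]
  obtain ⟨s, hs⟩ := fourTerm_lift (R.map (ses G).f) (R.map (ses G).g) (δR R G) w₁
    (map_g_δR R G) (exact_f_g R G) (exact_g_δR R G) (𝟙 _) (h.eq_of_tgt _ _)
  exact injective_of_retract s _ hs

include adj in
theorem natEquiv_succ : ∀ (r : ℕ) (G : B), Injective (R.obj G) →
    (∀ q, 0 < q → q < r + 1 → IsZero ((R.rightDerived q).obj G)) →
    NatEquiv.{w} L G (r + 1) ((R.rightDerived (r + 1)).obj G)
  | 0, G, hI, _ => natEquiv_one adj G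
  | r + 1, G, hI, hv => by
    have hI' : Injective (R.obj (ses G).X₃) := injective_R_X₃ adj G (hv 1 (by omega) (by omega))
    have hv' : ∀ q, 0 < q → q < r + 1 → IsZero ((R.rightDerived q).obj (ses G).X₃) := by
      intro q hq hq'
      obtain ⟨q', rfl⟩ : ∃ q', q = q' + 1 := ⟨q - 1, by omega⟩
      exact isZero_rightDerived_X₃ (R := R) G q' (hv (q' + 2) (by omega) (by omega))
    obtain ⟨e', he'⟩ := natEquiv_succ r (ses G).X₃ hI' hv'
    haveI := isIso_δ (R := R) G r
    let θ : (R.rightDerived (r + 1)).obj (ses G).X₃ ≅ (R.rightDerived (r + 2)).obj G :=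
      asIso ((H10SES.derivedLES R).δ (ses G) (ses_shortExact G) (r + 1) (r + 2) rfl)
    let ε : ∀ F : A, Ext.{w} (L.obj F) (ses G).X₃ (r + 1) ≃+ Ext.{w} (L.obj F) G (r + 2) :=
      fun F => AddEquiv.ofBijective _ (bijective_postcomp_extClass G (L.obj F) r)
    have hε : ∀ (F : A) (x' : Ext.{w} (L.obj F) (ses G).X₃ (r + 1)),
        ε F x' = x'.comp (ses_shortExact G).extClass rfl := fun _ _ => rfl
    have hnat : ∀ {F' F : A} (f : F' ⟶ F) (x' : Ext.{w} (L.obj F) (ses G).X₃ (r + 1)),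
        (Ext.mk₀ (L.map f)).comp (ε F x') (zero_add (r + 2)) =
          ε F' ((Ext.mk₀ (L.map f)).comp x' (zero_add (r + 1))) := by
      intro F' F f x'
      rw [hε, hε]
      exact (Ext.comp_assoc (Ext.mk₀ (L.map f)) x' (ses_shortExact G).extClass
        (zero_add (r + 1)) rfl (by omega)).symm
    have h0 : NatEquiv.{w} L G (r + 2) ((R.rightDerived (r + 1)).obj (ses G).X₃) := by
      refine ⟨fun F => (ε F).symm.trans (e' F), ?_⟩
      intro F' F f x
      obtain ⟨x', rfl⟩ := (ε F).surjective x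
      rw [hnat f x']
      simp only [AddEquiv.trans_apply, AddEquiv.symm_apply_apply]
      exact he' f x'
    exact h0.of_iso θ

end Succ

section Final

include adj in
/-- **`Extʳ(L F, G) ≃+ Hom(F, RʳR(G))` naturally in `F`, if `RᵠR(G) = 0` for `q < r`.** -/
theorem natEquiv_main (r : ℕ) (G : B) (hv : ∀ q, q < r → IsZero ((R.rightDerived q).obj G)) :
    NatEquiv.{w} L G r ((R.rightDerived r).obj G) := by
  haveI := pfl_R adj
  obtain _ | r := r
  · have h0 : NatEquiv.{w} L G 0 (R.obj G) := by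
      refine ⟨fun F => Ext.addEquiv₀.trans (adj.homAddEquiv F G), ?_⟩
      intro F' F f x
      obtain ⟨y, rfl⟩ := (Ext.mk₀_bijective _ _).2 x
      rw [Ext.mk₀_comp_mk₀]
      change adj.homEquiv _ _ (Ext.addEquiv₀ (Ext.mk₀ (L.map f ≫ y))) =
        f ≫ adj.homEquiv _ _ (Ext.addEquiv₀ (Ext.mk₀ y))
      have e1 : ∀ {X Y : B} (g : X ⟶ Y), Ext.addEquiv₀ (Ext.mk₀.{w} g) = g :=
        fun g => Ext.addEquiv₀.apply_symm_apply g
      rw [e1, e1, adj.homEquiv_naturality_left]
    exact h0.of_iso (R.rightDerivedZeroIsoSelf.app G).symm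
  · have hz : IsZero (R.obj G) :=
      IsZero.of_iso (hv 0 (by omega)) (R.rightDerivedZeroIsoSelf.app G).symm
    exact natEquiv_succ adj r G hz.injective (fun q _ hq => hv q hq)

end Final

end Main

end Groth.Agent.Lib.Helper2.ShriekExt
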