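import Groth.Agent.Lib.Helper2.ShriekExt.Shriek
import Groth.Agent.Lib.Helper2.ClImm.FF
import Groth.Agent.Lib.Helper2.Dual.Ext
import Groth.Agent.Lib.Helper2.GSS.Main
import Groth.Agent.Lib.Helper2.GSS.HomFunctor
import Groth.Agent.Lib.Helper13.ModSiteTensor
import Groth.Agent.Lib.Helper13.DerivedCommute

/-!
# Change of rings for `ℰxt` along a closed immersion (helper2)

For a closed immersion `ι : X → P` and an `O_X`-module `E`, the functor
`ι^!_E := ℋom_X(E, ι^! -)` is right adjoint to `F ↦ ι_*(F ⊗ E)`, and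
`ι_* ∘ ι^!_E ≅ ℋom_P(ι_*E, -)`.
-/

set_option autoImplicit false
set_option linter.style.haveILetI false
universe u
open CategoryTheory CategoryTheory.Limits AlgebraicGeometry TopologicalSpace Opposite
open Scheme.Modules

noncomputable section

namespace Groth.Agent.Lib.Helper2.ShriekExt

open Groth.Agent.Lib.Helper13 Groth.Agent.Lib.Helper2.Mon Groth.Agent.Lib.Helper2.Dual
  Groth.Agent.Lib.Helper2.Stk Groth.Agent.Lib.Helper13.DerivedCommute

variable {X P : Scheme.{u}} (ι : X ⟶ P) [IsClosedImmersion ι] (E : X.Modules)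

/-- `F ↦ ι_*(F ⊗ E)`. -/
abbrev pushE : X.Modules ⥤ P.Modules := (TT X).obj E ⋙ pushforward ι

/-- `- ⊗ ι_*E ≅ ι^* ⋙ (- ⊗ E) ⋙ ι_*`. -/
def tensorPushIsoE :
    (TT P).obj ((pushforward ι).obj E) ≅ Scheme.Modules.pullback ι ⋙ pushE ι E :=
  NatIso.ofComponents
    (fun B => braidIso ((pushforward ι).obj E) B ≪≫ projIso ι E B ≪≫
      (pushforward ι).mapIso (braidIso ((Scheme.Modules.pullback ι).obj B) E))
    (by
      intro B B' b
      dsimp only [Iso.trans_hom, Functor.mapIso_hom, Iso.app_hom, Functor.comp_map]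
      have h1 := braidIso_nat₂ ((pushforward ι).obj E) b
      have h2 := projIso_nat₂ ι E b
      have h3 := braidIso_nat₁ ((Scheme.Modules.pullback ι).map b) E
      have h1' : ((TT P).obj ((pushforward ι).obj E)).map b ≫
          (braidIso ((pushforward ι).obj E) B').hom =
          (braidIso ((pushforward ι).obj E) B).hom ≫
            (DCoh.tensorBi.obj ((pushforward ι).obj E)).map b := h1
      have h3' : (pushforward ι).map (((tensorPull ι).obj E).map b) ≫
          (pushforward ι).map (braidIso ((Scheme.Modules.pullback ι).obj B') E).hom =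
          (pushforward ι).map (braidIso ((Scheme.Modules.pullback ι).obj B) E).hom ≫
          (pushforward ι).map (((TT X).obj E).map ((Scheme.Modules.pullback ι).map b)) := by
        rw [← Functor.map_comp, ← Functor.map_comp]
        exact congrArg (pushforward ι).map h3
      exact three_squares _ _ _ _ _ _ _ _ _ _ h1' h2 h3')

variable [ModSite.HasSheafHom (O := X.sheaf) E]

/-- `ι^!_E := ℋom_X(E, ι^! -)`. -/
abbrev shriekE : P.Modules ⥤ X.Modules := shriek ι ⋙ HH X E

/-- `ι_*(- ⊗ E) ⊣ ι^!_E`. -/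
def adjE : pushE ι E ⊣ shriekE ι E := (adjH X E).comp (shriekAdj ι)

instance : (shriekE ι E).Additive := inferInstanceAs (shriek ι ⋙ HH X E).Additive

instance : PreservesFiniteLimits (shriekE ι E) := by
  haveI : PreservesLimitsOfSize.{0, 0} (shriekE ι E) := (adjE ι E).rightAdjoint_preservesLimits
  exact PreservesLimitsOfSize.preservesFiniteLimits _

omit [ModSite.HasSheafHom (O := X.sheaf) E] in
lemma preservesMonomorphisms_pushE (hE : FlatMod.IsFinLocFree E) :
    (pushE ι E).PreservesMonomorphisms := by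
  haveI : PreservesFiniteLimits ((TT X).obj E) := pfl_TT E hE
  haveI : PreservesFiniteLimits (pushE ι E) := comp_preservesFiniteLimits _ _
  infer_instance

/-- `ι^!_E` preserves injectives when `E` is finite locally free. -/
lemma injective_shriekE (hE : FlatMod.IsFinLocFree E) (Q : P.Modules) (hQ : Injective Q) :
    Injective ((shriekE ι E).obj Q) := by
  haveI := preservesMonomorphisms_pushE ι E hE
  exact Injective.injective_of_adjoint (adjE ι E) Q

section SheafHom

variable [ModSite.HasSheafHom (O := P.sheaf) ((pushforward ι).obj E)]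

/-- `ℋom_P(ι_*E, -) ≅ ι^!_E ⋙ ι_*`. -/
def sheafHomShriekIsoE : HH P ((pushforward ι).obj E) ≅ shriekE ι E ⋙ pushforward ι :=
  ((adjH P ((pushforward ι).obj E)).ofNatIsoLeft (tensorPushIsoE ι E)).rightAdjointUniq
    ((pullbackPushforwardAdjunction ι).comp (adjE ι E))

variable [HasInjectiveResolutions P.Modules]

/-- `ι_* Rᵠι^!_E G ≅ ℰxtᵠ_P(ι_*E, G)`. -/
def pushRightDerivedShriekEIso (q : ℕ) (G : P.Modules) :
    (pushforward ι).obj (((shriekE ι E).rightDerived q).obj G) ≅
      ((HH P ((pushforward ι).obj E)).rightDerived q).obj G :=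
  (rightDerivedCompExactObjIso (shriekE ι E) (pushforward ι) q G).symm ≪≫
    (rightDerivedObjIsoOfNatIso (sheafHomShriekIsoE ι E) q G).symm

/-- a module `M` with `ι_*M ≅ ℰxtᵠ_P(ι_*E, G)` is `Rᵠι^!_E G`. -/
def isoRightDerivedShriekE (q : ℕ) (G : P.Modules) (M : X.Modules)
    (e : (pushforward ι).obj M ≅ ((HH P ((pushforward ι).obj E)).rightDerived q).obj G) :
    M ≅ ((shriekE ι E).rightDerived q).obj G :=
  (ClImm.fullyFaithfulPushforward ι).preimageIso
    (e ≪≫ (pushRightDerivedShriekEIso ι E q G).symm)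

end SheafHom

end Groth.Agent.Lib.Helper2.ShriekExt
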