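import Mathlib

/-!
# Serre duality in Yoneda form, by dimension shifting (helper2)

In a `k`-linear abelian category with objects `O`, `ω` and a linear form `τ : Ext^N(O, ω) → k`, if
`Hom(G, ω) → Ext^N(O, G)^∨` is bijective for all "coherent" `G`, and coherent objects have
presentations by objects acyclic for `Ext(-, ω)` and for `Ext^{<N}(O, -)`, then the Yoneda pairing
`Ext^i(G, ω) → Ext^{N-i}(O, G)^∨` is bijective for all coherent `G` and all `i ≤ N`.
-/

set_option autoImplicit false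
universe w v u t

namespace Groth.Agent.Lib.Helper2.ShriekExt

open CategoryTheory CategoryTheory.Limits CategoryTheory.Abelian

section LinAlg

variable {k : Type t} [Field k]

lemma exists_factor_of_ker_le {V W : Type*} [AddCommGroup V] [Module k V] [AddCommGroup W]
    [Module k W] (b : V →ₗ[k] W) (φ : V →ₗ[k] k) (h : LinearMap.ker b ≤ LinearMap.ker φ) :
    ∃ ψ : W →ₗ[k] k, ψ ∘ₗ b = φ := by
  obtain ⟨ψ, hψ⟩ := LinearMap.exists_extend
    (((LinearMap.ker b).liftQ φ h) ∘ₗ (b.quotKerEquivRange).symm.toLinearMap)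
  refine ⟨ψ, ?_⟩
  ext v
  have h1 := LinearMap.congr_fun hψ ⟨b v, LinearMap.mem_range_self b v⟩
  simp only [LinearMap.coe_comp, Function.comp_apply, Submodule.coe_subtype,
    LinearEquiv.coe_coe] at h1
  rw [LinearMap.comp_apply, h1, LinearMap.quotKerEquivRange_symm_apply_image]
  rfl

end LinAlg

section Main

variable {k : Type t} [Field k] {𝒞 : Type u} [Category.{v} 𝒞] [Abelian 𝒞] [Linear k 𝒞]
  [HasExt.{w} 𝒞] (O ω : 𝒞) (N : ℕ) (τ : Ext.{w} O ω N →ₗ[k] k)

/-- the Yoneda pairing `Ext^i(G, ω) → Ext^j(O, G)^∨`, `j + i = N`. -/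
noncomputable def Psi (G : 𝒞) {i j : ℕ} (h : j + i = N) :
    Ext.{w} G ω i →ₗ[k] Ext.{w} O G j →ₗ[k] k :=
  ((Ext.bilinearCompOfLinear k O G ω j i N h).flip).compr₂ τ

lemma Psi_apply (G : 𝒞) {i j : ℕ} (h : j + i = N) (ξ : Ext.{w} G ω i) (y : Ext.{w} O G j) :
    Psi O ω N τ G h ξ y = τ (y.comp ξ h) := rfl

variable (coh : 𝒞 → Prop)
  (h0 : ∀ G, coh G → Function.Bijective (Psi O ω N τ G (add_zero N)))
  (hP : ∀ G, coh G → ∃ (E K : 𝒞) (ι : K ⟶ E) (π : E ⟶ G) (w : ι ≫ π = 0),
    (ShortComplex.mk ι π w).ShortExact ∧ coh E ∧ coh K ∧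
    (∀ i : ℕ, 1 ≤ i → Subsingleton (Ext.{w} E ω i)) ∧
    (∀ j : ℕ, j < N → Subsingleton (Ext.{w} O E j)))

include h0 hP in
theorem Psi_bijective : ∀ (i j : ℕ) (h : j + i = N) (G : 𝒞), coh G →
    Function.Bijective (Psi O ω N τ G h)
  | 0, j, h, G, hG => by
    obtain rfl : j = N := by omega
    exact h0 G hG
  | i + 1, j, h, G, hG => by
    obtain ⟨E, K, ι, π, w, hS, hE, hK, hExt, hH⟩ := hP G hG
    have hjN : j < N := by omega
    have h' : j + 1 + i = N := by omega
    have ihK := Psi_bijective i (j + 1) h' K hK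
    have ihE := Psi_bijective i (j + 1) h' E hE
    haveI := hExt (i + 1) (by omega)
    haveI := hH j hjN
    have hi : 1 + i = i + 1 := by omega
    -- the key compatibility
    have hδ : ∀ (ξ : Ext.{w} K ω i) (y : Ext.{w} O G j),
        Psi O ω N τ G h (hS.extClass.comp ξ hi) y =
          Psi O ω N τ K h' ξ (y.comp hS.extClass rfl) := by
      intro ξ y
      rw [Psi_apply, Psi_apply]
      congr 1
      exact (Ext.comp_assoc y hS.extClass ξ rfl hi (by omega)).symm
    have hι : ∀ (ζ : Ext.{w} E ω i) (y : Ext.{w} O K (j + 1)),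
        Psi O ω N τ K h' ((Ext.mk₀ ι).comp ζ (zero_add i)) y =
          Psi O ω N τ E h' ζ (y.comp (Ext.mk₀ ι) (add_zero (j + 1))) := by
      intro ζ y
      rw [Psi_apply, Psi_apply]
      congr 1
      exact (Ext.comp_assoc y (Ext.mk₀ ι) ζ (add_zero (j + 1)) (zero_add i) (by omega)).symm
    constructor
    · rw [injective_iff_map_eq_zero]
      intro η hη
      obtain ⟨ξ, rfl⟩ := Ext.contravariant_sequence_exact₃ hS ω η (Subsingleton.elim _ _) hi
      -- `Ψ_K ξ` vanishes on the kernel of `b`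
      let b : Ext.{w} O K (j + 1) →ₗ[k] Ext.{w} O E (j + 1) :=
        (Ext.mk₀ ι).postcompOfLinear k O (add_zero (j + 1))
      have hker : LinearMap.ker b ≤ LinearMap.ker (Psi O ω N τ K h' ξ) := by
        intro y hy
        have hy' : y.comp (Ext.mk₀ ι) (add_zero (j + 1)) = 0 := hy
        obtain ⟨y₃, rfl⟩ := Ext.covariant_sequence_exact₁ O hS y hy' rfl
        rw [LinearMap.mem_ker, ← hδ, hη]
        rfl
      obtain ⟨ψ'', hψ''⟩ := exists_factor_of_ker_le b _ hker
      obtain ⟨ζ, hζ⟩ := ihE.2 ψ''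
      have h1 : (Ext.mk₀ ι).comp ζ (zero_add i) = ξ := by
        apply ihK.1
        ext y
        rw [hι, hζ, ← hψ'']
        rfl
      rw [← h1, ← Ext.comp_assoc _ _ _ (add_zero 1) (zero_add i) (by omega),
        hS.extClass_comp, Ext.zero_comp]
    · intro ψ
      let δ' : Ext.{w} O G j →ₗ[k] Ext.{w} O K (j + 1) :=
        hS.extClass.postcompOfLinear k O rfl
      have hinj : LinearMap.ker δ' = ⊥ := by
        rw [LinearMap.ker_eq_bot']
        intro y hy
        have hy' : y.comp hS.extClass rfl = 0 := hy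
        obtain ⟨x₂, hx₂⟩ := Ext.covariant_sequence_exact₃ O hS y rfl hy'
        rw [← hx₂, Subsingleton.elim x₂ 0, Ext.zero_comp]
      obtain ⟨r, hr⟩ := LinearMap.exists_leftInverse_of_injective δ' hinj
      obtain ⟨ξ, hξ⟩ := ihK.2 (ψ ∘ₗ r)
      refine ⟨hS.extClass.comp ξ hi, ?_⟩
      ext y
      rw [hδ, hξ, LinearMap.comp_apply]
      congr 1
      exact LinearMap.congr_fun hr y

end Main

end Groth.Agent.Lib.Helper2.ShriekExt
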